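import Mathlib
import Cfsg.Agent.Lib.FiTool.BaseE
import Cfsg.Agent.Lib.FiTool.F23

/-! A base of the transpositions of Fi23 (generated data) -/

set_option autoImplicit false
set_option maxRecDepth 100000
set_option Elab.async false

namespace CfsgLib.FiTool

open CfsgLib.Comput CfsgLib.Fischer

/-- words for the points of the base -/
noncomputable def ws23 : List ℕ :=
  [nat_lit 1, nat_lit 3, nat_lit 5, nat_lit 7, nat_lit 8, nat_lit 0x40805040304050804, nat_lit 0x203040805040302010203040508040302, nat_lit 0x605040807060504030405060708040506, nat_lit 0x6050203040807060504030201020304050607080403020506, nat_lit 0x40506030405020304080706050403020102030405060708040302050403060504, nat_lit 0x908040503040809060502030408070605040302010203040506070804030205060908040305040809, nat_lit 0x60504080304050203040806050403020102030405060804030205040308040506, nat_lit 0x20304080506040503040807060504030203040506070804030504060508040302, nat_lit 0x40806030405020304080706050403020102030405060708040302050403060804, nat_lit 0x40805060405020304080706050403020102030405060708040302050406050804,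 nat_lit 0x9080405030408090408050604050203040807060504030201020304050607080403020504060508040908040305040809, nat_lit 0x9080405030408090408060304050203040807060504030201020304050607080403020504030608040908040305040809, nat_lit 0x9080405030408090405060304050203040807060504030201020304050607080403020504030605040908040305040809, nat_lit 0x90802030405010203040809040506030405020304080706050403020102030405060708040302050403060504090804030201050403020809, nat_lit 0x90802030405010203040809040806030405020304080706050403020102030405060708040302050403060804090804030201050403020809, nat_lit 0xa070605040803040506070a0203040805060405030408070605040302030405060708040305040605080403020a070605040308040506070a, nat_lit 0x408090304080203040501020304080904050603040502030408070605040302010203040506070804030205040306050409080403020105040302080403090804, nat_lit 0x408090504080203040501020304080904050603040502030408070605040302010203040506070804030205040306050409080403020105040302080405090804]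

/-- the points of the base -/
noncomputable def is23 : List ℕ :=
  [nat_lit 0, nat_lit 2, nat_lit 4, nat_lit 6, nat_lit 7, nat_lit 45, nat_lit 107, nat_lit 120, nat_lit 249, nat_lit 687, nat_lit 0x7f0, nat_lit 783, nat_lit 817, nat_lit 691, nat_lit 704, nat_lit 0x110a, nat_lit 0x108e, nat_lit 0x1042, nat_lit 0x2081, nat_lit 0x21bf, nat_lit 0x265f, nat_lit 0x3d01, nat_lit 0x3d05]

/-- the coordinates of the points of the base -/
noncomputable def cs23 : List ℕ :=
  [nat_lit 1, nat_lit 2, nat_lit 4, nat_lit 8, nat_lit 16, nat_lit 32, nat_lit 64, nat_lit 128, nat_lit 256, nat_lit 512, nat_lit 0x400, nat_lit 119, nat_lit 846, nat_lit 411, nat_lit 685, nat_lit 0x79c, nat_lit 0x753, nat_lit 0x4f9, nat_lit 0x6e6, nat_lit 0x52f, nat_lit 0x3f0, nat_lit 0x5c5, nat_lit 0x63a]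

/-- words normalizing the base -/
noncomputable def us23 : List ℕ :=
  [nat_lit 0x20302010203, nat_lit 0x40504030405, nat_lit 0x40804030408, nat_lit 0x60706050607, nat_lit 0x9080405040304050809, nat_lit 0xa0706050405060708070605040304050607080a]

/-- their action on the base -/
noncomputable def tu23 : List ℕ :=
  [nat_lit 0x151614101112130a0c0d0e0b0f09070805060403020001, nat_lit 0x15161412130a0f100d0e0c0b1108090706040503010200, nat_lit 0x131214161510110a09080c0b0f0e0d0706020103050400, nat_lit 0x1516140f11120a130e0b0c0d1009060508070402030100, nat_lit 0x1516141312090d0e0f10070608110a0c0b050403010200, nat_lit 0xa100c0f111215130e08140616090d070b050103020400]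

/-- transitivity on the base -/
noncomputable def lv23 : List (ℕ × List ℕ) :=
  [(nat_lit 2, [nat_lit 1, nat_lit 2, nat_lit 3, nat_lit 4, nat_lit 5, nat_lit 6]), (nat_lit 2, [nat_lit 2, nat_lit 3, nat_lit 4, nat_lit 5, nat_lit 6, nat_lit 0x1050201]), (nat_lit 3, [nat_lit 4, nat_lit 0x603, nat_lit 0x40502, nat_lit 0x1050201]), (nat_lit 3, [nat_lit 0x6040304, nat_lit 0x405060204, nat_lit 0x20105010201, nat_lit 0x40105020401])]

/-- points centralizing the first points of the base -/
noncomputable def ea23 : List ℕ :=
  [nat_lit 8, nat_lit 9, nat_lit 0x40805040304050804, nat_lit 0x203040805040302010203040508040302, nat_lit 0x605040807060504030405060708040506, nat_lit 0x6050203040807060504030201020304050607080403020506]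

/-- a transversal in these points -/
noncomputable def va23 : List ℕ :=
  [nat_lit 0, nat_lit 2, nat_lit 258, nat_lit 770, nat_lit 0x402, nat_lit 0x502, nat_lit 0x602, nat_lit 0x30102, nat_lit 0x40102, nat_lit 0x50102, nat_lit 0x60102, nat_lit 0x40302, nat_lit 0x50302, nat_lit 0x60302, nat_lit 0x50402, nat_lit 0x60402, nat_lit 0x60502, nat_lit 0x2030102, nat_lit 0x4030102, nat_lit 0x5030102, nat_lit 0x6030102, nat_lit 0x2040102, nat_lit 0x5040102, nat_lit 0x6040102, nat_lit 0x2050102, nat_lit 0x6050102, nat_lit 0x2060102, nat_lit 0x2040302, nat_lit 0x5040302, nat_lit 0x6040302, nat_lit 0x2050302, nat_lit 0x6050302, nat_lit 0x2060302, nat_lit 0x2050402, nat_lit 0x6050402, nat_lit 0x2060402, nat_lit 0x2060502, nat_lit 0x504030102, nat_lit 0x604030102, nat_lit 0x605030102, nat_lit 0x605040102, nat_lit 0x605040302, nat_lit 0x20504030102, nat_lit 0x60504030102, nat_lit 0x20604030102, nat_lit 0x20605030102, nat_lit 0x20605040102, nat_lit 0x20605040302]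

/-- polycyclic generators of a Sylow subgroup of the action on the base -/
noncomputable def pw23 : List ℕ :=
  [nat_lit 0x502, nat_lit 0x201050102, nat_lit 0x50204010502, nat_lit 0x5040105, nat_lit 0x2040102, nat_lit 4, nat_lit 1]

/-- their action on the base -/
noncomputable def tp23 : List ℕ :=
  [nat_lit 0x1615141213080e0d100f0706090a110c0b040503020100, nat_lit 0x151614080e0c070f120911040a0d131006050b03020001, nat_lit 0x16151413090407060d0e0b0c0a1208100f051102030001, nat_lit 0x16151408121106070d0e0b0c0509130f100a0401000302, nat_lit 0x1615141311120f100b0c0d0e0a04080607050901000302, nat_lit 0x1516140f11120a130e0b0c0d1009060508070402030100, nat_lit 0x151614101112130a0c0d0e0b0f09070805060403020001]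

/-- the polycyclic relations -/
noncomputable def pl23 : List PcL :=
  [(nat_lit 2, nat_lit 0, [nat_lit 7, nat_lit 0x607, nat_lit 5, nat_lit 4, nat_lit 515, nat_lit 2]), (nat_lit 2, nat_lit 0, [nat_lit 3, nat_lit 772, nat_lit 773, nat_lit 0x40506, nat_lit 7]), (nat_lit 2, nat_lit 0, [nat_lit 4, nat_lit 5, nat_lit 0x40506, nat_lit 0x40507]), (nat_lit 2, nat_lit 0, [nat_lit 5, nat_lit 7, nat_lit 6]), (nat_lit 2, nat_lit 0, [nat_lit 7, nat_lit 6]), (nat_lit 2, nat_lit 0, [nat_lit 7]), (nat_lit 2, nat_lit 0, [])]

/-- a stabiliser chain -/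
noncomputable def lb23 : LB :=
  [(nat_lit 4, nat_lit 3, [nat_lit 2, nat_lit 3, nat_lit 1]), (nat_lit 5, nat_lit 1, [nat_lit 7, nat_lit 6, nat_lit 4])]

theorem b23_pts : ptsOK ps23 (nth 0 gp23) 10 ws23 is23 = true := by decide +kernel

theorem b23_lab : disOK (nth 0 is23) 31671 23 = true := by decide +kernel

theorem b23_comm : commOK ps23 ws23 is23 11 = true := by decide +kernel

theorem b23_max : subM (cmL W23 fx23 (ws23.take 5) (fullM 31671)) (maskL is23) = true := by decide +kernel

theorem b23_co : coOK cs23 23 11 = true := by decide +kernel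

theorem b23_rel : allI (relOK ps23 gp23 ws23 cs23 11) 11 23 = true := by decide +kernel

theorem b23_cov : covOK (nth 0 cs23) 23 11 3 = true := by decide +kernel

theorem b23_u : subAll ps23 (nth 0 is23) (tabP tu23) 23 us23 0 6 = true := by decide +kernel

theorem b23_tr : transOK (tabP tu23) 23 lv23 0 = true := by decide +kernel

theorem b23_q0 : pop 31671 (cmL W23 fx23 (ws23.take 0) (fullM 31671)) = 31671 + 0 := by decide +kernel

theorem b23_q1 : pop 31671 (cmL W23 fx23 (ws23.take 1) (fullM 31671)) = 3510 + 1 := by decide +kernel

theorem b23_q2 : pop 31671 (cmL W23 fx23 (ws23.take 2) (fullM 31671)) = 693 + 2 := by decide +kernel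

theorem b23_q3 : pop 31671 (cmL W23 fx23 (ws23.take 3) (fullM 31671)) = 180 + 3 := by decide +kernel

theorem b23_q4 : pop 31671 (cmL W23 fx23 (ws23.take 4) (fullM 31671)) = 51 + 4 := by decide +kernel

theorem b23_ea : allL (fixP ps23 (is23.take 4)) ea23 = true := by decide +kernel

theorem b23_va : 48 ≤ pop 31671 (orbM (stepW ps23 ea23) va23 (nth 0 is23 4)) := by decide +kernel

theorem b23_w3 : allL (fixP (tabP tu23) (List.range 5)) [0x601050106010501] = true := by decide +kernel

theorem b23_v3 : 3 ≤ pop 23 (orbM (stepW (tabP tu23) [0x601050106010501]) [0, 1, 257] 5) := by decide +kernel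

theorem b23_un0 : uniqOK (nth 0 cs23) 23 3 0 (fullM 0) = true := by decide +kernel

theorem b23_un1 : uniqOK (nth 0 cs23) 23 3 1 (fullM 1) = true := by decide +kernel

theorem b23_un2 : uniqOK (nth 0 cs23) 23 3 2 (fullM 2) = true := by decide +kernel

theorem b23_un3 : uniqOK (nth 0 cs23) 23 3 3 (fullM 3) = true := by decide +kernel

theorem b23_hept : synM (nth 0 cs23) 23 2228540 = 0 ∧ cnt 23 2228540 = 7 := by decide +kernel

theorem b23_six0 : synM (nth 0 cs23) 23 70684 = nth 0 cs23 0 := by decide +kernel

theorem b23_six1 : synM (nth 0 cs23) 23 573468 = nth 0 cs23 1 := by decide +kernel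

theorem b23_tp : tabOK (tabP tu23) 23 pw23 tp23 = true := by decide +kernel

theorem b23_syl : sylOK (tabP tp23) 23 7 pl23 lb23 (2 ^ 7) = true := by decide +kernel

theorem b23_zp : zpOK W23 fx23 ps23 (nth 0 gp23) 31671 10 0 1 [4, 5, 6, 7, 8, 9, 10] [3, 4, 5, 6, 7, 8, 9] = true := by decide +kernel

theorem b23_two : clOK ps23 (nth 0 gp23) 31671 10 [1, 3] [0, 2] = true := by decide +kernel

theorem b23_wit2 : witOK ps23 (nth 0 gp23) 31671 10 2 [1, 3] [0, 2] [2, 4] [1, 3] 0 = true := by decide +kernel

theorem b23_wit3 : witOK ps23 (nth 0 gp23) 31671 10 3 [1, 3, 5] [0, 2, 4] [2, 4, 6] [1, 3, 5] 0 = true := by decide +kernel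

end CfsgLib.FiTool
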