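import Mathlib
import Cfsg.Agent.Lib.FiTool.BaseE
import Cfsg.Agent.Lib.FiTool.F22

/-! A base of the transpositions of Fi22 (generated data) -/

set_option autoImplicit false
set_option maxRecDepth 100000
set_option Elab.async false

namespace CfsgLib.FiTool

open CfsgLib.Comput CfsgLib.Fischer

/-- words for the points of the base -/
noncomputable def ws22 : List ℕ :=
  [nat_lit 1, nat_lit 3, nat_lit 5, nat_lit 8, nat_lit 7, nat_lit 0x40805040304050804, nat_lit 0x203040805040302010203040508040302, nat_lit 0x605040807060504030405060708040506, nat_lit 0x6050203040807060504030201020304050607080403020506, nat_lit 0x908040503040809060502030408070605040302010203040506070804030205060908040305040809, nat_lit 0x60504080304050203040806050403020102030405060804030205040308040506, nat_lit 0x20304080506040503040807060504030203040506070804030504060508040302, nat_lit 0x40506030405020304080706050403020102030405060708040302050403060504, nat_lit 0x40806030405020304080706050403020102030405060708040302050403060804, nat_lit 0x40805060405020304080706050403020102030405060708040302050406050804,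 nat_lit 0x9080405030408090405060304050203040807060504030201020304050607080403020504030605040908040305040809, nat_lit 0x9080405030408090408060304050203040807060504030201020304050607080403020504030608040908040305040809, nat_lit 0x9080405030408090408050604050203040807060504030201020304050607080403020504060508040908040305040809, nat_lit 0x90802030405010203040809040806030405020304080706050403020102030405060708040302050403060804090804030201050403020809, nat_lit 0x90802030405010203040809040506030405020304080706050403020102030405060708040302050403060504090804030201050403020809, nat_lit 0x408090304080203040501020304080904050603040502030408070605040302010203040506070804030205040306050409080403020105040302080403090804, nat_lit 0x408090504080203040501020304080904050603040502030408070605040302010203040506070804030205040306050409080403020105040302080405090804]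

/-- the points of the base -/
noncomputable def is22 : List ℕ :=
  [nat_lit 0, nat_lit 2, nat_lit 4, nat_lit 7, nat_lit 6, nat_lit 41, nat_lit 92, nat_lit 103, nat_lit 195, nat_lit 0x440, nat_lit 514, nat_lit 545, nat_lit 466, nat_lit 469, nat_lit 476, nat_lit 0x6ae, nat_lit 0x6c6, nat_lit 0x6f3, nat_lit 0xa84, nat_lit 0xa31, nat_lit 0xd47, nat_lit 0xd48]

/-- the coordinates of the points of the base -/
noncomputable def cs22 : List ℕ :=
  [nat_lit 1, nat_lit 2, nat_lit 4, nat_lit 8, nat_lit 16, nat_lit 32, nat_lit 64, nat_lit 128, nat_lit 256, nat_lit 512, nat_lit 111, nat_lit 190, nat_lit 488, nat_lit 411, nat_lit 349, nat_lit 761, nat_lit 675, nat_lit 628, nat_lit 823, nat_lit 782, nat_lit 965, nat_lit 978]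

/-- words normalizing the base -/
noncomputable def us22 : List ℕ :=
  [nat_lit 0x20302010203, nat_lit 0x40504030405, nat_lit 0x40804030408, nat_lit 0x60706050607, nat_lit 0x9080405040304050809]

/-- their action on the base -/
noncomputable def tu22 : List ℕ :=
  [nat_lit 0x14150f100912130b0d0c0e0a11070805060403020001, nat_lit 0x141512131011090d0e080b0a0f0c0706030405010200, nat_lit 0x12131415090f100c080e0b0a110d0706020401050300, nat_lit 0x14150f111209130e0a0c0b0d10060508070203040100, nat_lit 0x141513120e0d0c11100f070608090b0a050403010200]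

/-- transitivity on the base -/
noncomputable def lv22 : List (ℕ × List ℕ) :=
  [(nat_lit 3, [nat_lit 1, nat_lit 2, nat_lit 3, nat_lit 4, nat_lit 5]), (nat_lit 2, [nat_lit 2, nat_lit 3, nat_lit 4, nat_lit 5, nat_lit 0x1050201]), (nat_lit 3, [nat_lit 4, nat_lit 0x30403, nat_lit 0x50204, nat_lit 0x1050201])]

/-- points centralizing the first points of the base -/
noncomputable def ea22 : List ℕ :=
  [nat_lit 8, nat_lit 9, nat_lit 0x40805040304050804, nat_lit 0x203040805040302010203040508040302, nat_lit 0x605040807060504030405060708040506, nat_lit 0x6050203040807060504030201020304050607080403020506]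

/-- a transversal in these points -/
noncomputable def va22 : List ℕ :=
  [nat_lit 0, nat_lit 2, nat_lit 258, nat_lit 770, nat_lit 0x402, nat_lit 0x502, nat_lit 0x602, nat_lit 0x30102, nat_lit 0x40102, nat_lit 0x50102, nat_lit 0x60102, nat_lit 0x40302, nat_lit 0x50302, nat_lit 0x60302, nat_lit 0x50402, nat_lit 0x60402, nat_lit 0x60502, nat_lit 0x2030102, nat_lit 0x4030102, nat_lit 0x5030102, nat_lit 0x6030102, nat_lit 0x2040102, nat_lit 0x5040102, nat_lit 0x6040102, nat_lit 0x2050102, nat_lit 0x6050102, nat_lit 0x2060102, nat_lit 0x2040302, nat_lit 0x5040302, nat_lit 0x6040302, nat_lit 0x2050302, nat_lit 0x6050302, nat_lit 0x2060302, nat_lit 0x2050402, nat_lit 0x6050402, nat_lit 0x2060402, nat_lit 0x2060502, nat_lit 0x504030102, nat_lit 0x604030102, nat_lit 0x605030102, nat_lit 0x605040102, nat_lit 0x605040302, nat_lit 0x20504030102, nat_lit 0x60504030102, nat_lit 0x20604030102, nat_lit 0x20605030102, nat_lit 0x20605040102, nat_lit 0x20605040302]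

/-- polycyclic generators of a Sylow subgroup of the action on the base -/
noncomputable def pw22 : List ℕ :=
  [nat_lit 0x502, nat_lit 0x201050102, nat_lit 0x50204010502, nat_lit 0x5040105, nat_lit 0x2040102, nat_lit 4, nat_lit 1]

/-- their action on the base -/
noncomputable def tp22 : List ℕ :=
  [nat_lit 0x151412130d0e0810110907060c0f0b0a030405020100, nat_lit 0x14150e0811070b130c0d0f030912100605040a020001, nat_lit 0x15140c120607030d0e130a0b0908101105020f040001, nat_lit 0x1514130807060f0d0e0c0a0b05121110090103000402, nat_lit 0x15140f121011130a0b030d0e0908060705010c000402, nat_lit 0x14150f111209130e0a0c0b0d10060508070203040100, nat_lit 0x14150f100912130b0d0c0e0a11070805060403020001]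

/-- the polycyclic relations -/
noncomputable def pl22 : List PcL :=
  [(nat_lit 2, nat_lit 0, [nat_lit 7, nat_lit 0x607, nat_lit 5, nat_lit 4, nat_lit 515, nat_lit 2]), (nat_lit 2, nat_lit 0, [nat_lit 3, nat_lit 772, nat_lit 773, nat_lit 0x40506, nat_lit 7]), (nat_lit 2, nat_lit 0, [nat_lit 4, nat_lit 5, nat_lit 0x40506, nat_lit 0x40507]), (nat_lit 2, nat_lit 0, [nat_lit 5, nat_lit 7, nat_lit 6]), (nat_lit 2, nat_lit 0, [nat_lit 7, nat_lit 6]), (nat_lit 2, nat_lit 0, [nat_lit 7]), (nat_lit 2, nat_lit 0, [])]

/-- a stabiliser chain -/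
noncomputable def lb22 : LB :=
  [(nat_lit 3, nat_lit 3, [nat_lit 1, nat_lit 3, nat_lit 6]), (nat_lit 5, nat_lit 1, [nat_lit 7, nat_lit 6, nat_lit 4])]

theorem b22_pts : ptsOK ps22 (nth 0 gp22) 9 ws22 is22 = true := by decide +kernel

theorem b22_lab : disOK (nth 0 is22) 3510 22 = true := by decide +kernel

theorem b22_comm : commOK ps22 ws22 is22 10 = true := by decide +kernel

theorem b22_max : subM (cmL W22 fx22 (ws22.take 4) (fullM 3510)) (maskL is22) = true := by decide +kernel

theorem b22_co : coOK cs22 22 10 = true := by decide +kernel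

theorem b22_rel : allI (relOK ps22 gp22 ws22 cs22 10) 10 22 = true := by decide +kernel

theorem b22_cov : covOK (nth 0 cs22) 22 10 3 = true := by decide +kernel

theorem b22_u : subAll ps22 (nth 0 is22) (tabP tu22) 22 us22 0 5 = true := by decide +kernel

theorem b22_tr : transOK (tabP tu22) 22 lv22 0 = true := by decide +kernel

theorem b22_q0 : pop 3510 (cmL W22 fx22 (ws22.take 0) (fullM 3510)) = 3510 + 0 := by decide +kernel

theorem b22_q1 : pop 3510 (cmL W22 fx22 (ws22.take 1) (fullM 3510)) = 693 + 1 := by decide +kernel

theorem b22_q2 : pop 3510 (cmL W22 fx22 (ws22.take 2) (fullM 3510)) = 180 + 2 := by decide +kernel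

theorem b22_q3 : pop 3510 (cmL W22 fx22 (ws22.take 3) (fullM 3510)) = 51 + 3 := by decide +kernel

theorem b22_ea : allL (fixP ps22 (is22.take 3)) ea22 = true := by decide +kernel

theorem b22_va : 48 ≤ pop 3510 (orbM (stepW ps22 ea22) va22 (nth 0 is22 3)) := by decide +kernel

theorem b22_w3 : allL (fixP (tabP tu22) (List.range 4)) [0x50401030401050401030401] = true := by decide +kernel

theorem b22_v3 : 3 ≤ pop 22 (orbM (stepW (tabP tu22) [0x50401030401050401030401]) [0, 1, 257] 4) := by decide +kernel

theorem b22_un0 : uniqOK (nth 0 cs22) 22 3 0 (fullM 0) = true := by decide +kernel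

theorem b22_un1 : uniqOK (nth 0 cs22) 22 3 1 (fullM 1) = true := by decide +kernel

theorem b22_un2 : uniqOK (nth 0 cs22) 22 3 2 (fullM 2) = true := by decide +kernel

theorem b22_un3 : uniqOK (nth 0 cs22) 22 3 3 (maskL [4, 20, 21]) = true := by decide +kernel

theorem b22_ex : synM (nth 0 cs22) 22 (maskL [4, 20, 21]) = synM (nth 0 cs22) 22 (fullM 3) := by decide +kernel

theorem b22_hept : synM (nth 0 cs22) 22 1081660 = 0 ∧ cnt 22 1081660 = 7 := by decide +kernel

theorem b22_six0 : synM (nth 0 cs22) 22 16732 = nth 0 cs22 0 := by decide +kernel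

theorem b22_six1 : synM (nth 0 cs22) 22 2236 = nth 0 cs22 1 := by decide +kernel

theorem b22_tp : tabOK (tabP tu22) 22 pw22 tp22 = true := by decide +kernel

theorem b22_syl : sylOK (tabP tp22) 22 7 pl22 lb22 (2 ^ 7) = true := by decide +kernel

theorem b22_th : pcAll (stepC (tabP tp22) 22) (idC 22) (pl22.map Prod.fst) 0 (thT (nth 0 cs22) 22 10 6 64) = true := by decide +kernel

theorem b22_zp : zpOK W22 fx22 ps22 (nth 0 gp22) 3510 9 0 1 [4, 5, 6, 7, 8, 9] [3, 4, 5, 6, 7, 8] = true := by decide +kernel

theorem b22_two : clOK ps22 (nth 0 gp22) 3510 9 [1, 3] [0, 2] = true := by decide +kernel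

theorem b22_wit2 : witOK ps22 (nth 0 gp22) 3510 9 2 [1, 3] [0, 2] [2, 4] [1, 3] 0 = true := by decide +kernel

theorem b22_wit3 : witOK ps22 (nth 0 gp22) 3510 9 3 [1, 3, 5] [0, 2, 4] [2, 4, 6] [1, 3, 5] 0 = true := by decide +kernel

end CfsgLib.FiTool
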